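import Cfsg.Agent.H612.Ore.CoTwo23
import Cfsg.Agent.H78.Pw.Base
import Cfsg.Agent.H134.Sq.Base

/-!
# S2465, S2453: the group `Co2`, generic in the model (helper966)

Every class representative (words of helper68) is a product of two elements of order 23 and of two elements of order 11:
`T` is the table `((a, b), x, y)` with `x ^ 23 = (x⁻¹ r) ^ 23 = 1`, `y ^ 11 = (y⁻¹ r) ^ 11 = 1`, `r = [a, b]`.
-/

set_option autoImplicit false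
set_option maxRecDepth 100000

namespace Cfsg.Agent.H966.Ore.CoTwoPw

open Cfsg Subgroup
open Cfsg.Agent.H633.Ore Cfsg.Agent.H68.Ore.Words Cfsg.Agent.H612.Ore.CoTwo23

/-- `X ^ 11` -/
noncomputable def pow11 {β : Sort _} (X : List ℕ) (k : List ℕ → β) : β :=
  mapF (linL X) X fun X2 => mapF (linL X2) X2 fun X4 => mapF (linL X4) X4 fun X8 =>
    mapF (linL X8) X2 fun X10 => mapF (linL X10) X k

/-- the check of one class: `x ^ 23 = (x⁻¹ r) ^ 23 = 1` -/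
noncomputable def chk23 (gs : ℕ → List ℕ) (id x r : List ℕ) : Bool :=
  wF gs x.reverse id fun X => cond (pow23 X fun Y => beqL Y id)
    (wF gs (x.reverse ++ r).reverse id fun X => pow23 X fun Y => beqL Y id) false

/-- the check of one class: `x ^ 11 = (x⁻¹ r) ^ 11 = 1` -/
noncomputable def chk11 (gs : ℕ → List ℕ) (id x r : List ℕ) : Bool :=
  wF gs x.reverse id fun X => cond (pow11 X fun Y => beqL Y id)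
    (wF gs (x.reverse ++ r).reverse id fun X => pow11 X fun Y => beqL Y id) false

/-- the whole check -/
noncomputable def chkP (gs : ℕ → List ℕ) (id : List ℕ) (T : List ((List ℕ × List ℕ) × List ℕ × List ℕ)) : Bool :=
  List.rec true (fun t _ ih => cond (chk23 gs id t.2.1 (cw t.1)) (cond (chk11 gs id t.2.2 (cw t.1)) ih false) false) T

/-- the table: `((a, b), x, y)` -/
def T : List ((List ℕ × List ℕ) × List ℕ × List ℕ) := [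
  (([2], [1, 0, 2, 0, 2, 1, 0, 1, 2, 0, 1, 0, 2, 0, 1, 2, 0, 1]), [0, 1, 2, 0, 1, 2], [0, 1, 2, 0, 2, 1, 0, 2, 1]),
  (([1], [0, 2, 1, 0, 1, 2, 0]), [0, 1, 0, 1, 2, 1, 0], [0, 1, 2, 0, 2, 1, 0, 1, 2]),
  (([1], [0, 1, 0]), [2, 1, 0, 1, 0, 2, 0, 1, 2], [0, 1, 0, 1, 2, 0, 1, 0, 2]),
  (([1, 2], [0, 2, 0, 1, 0, 2, 0, 1]), [2, 1, 0], [0, 1, 2, 0, 1, 0, 2, 0, 2]),
  (([2], [0]), [1, 2, 0], [1, 0, 2, 0, 2, 0, 1, 2, 0]),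
  (([1], [0, 1, 2, 0, 1, 2, 1, 2, 1, 0]), [1, 0, 2], [0, 1, 0, 2, 0, 1, 0, 1, 2]),
  (([2, 0, 1, 0], [1, 0, 2, 1, 2, 0, 1, 2]), [1, 2, 0], [0, 2, 0, 1, 0, 2, 1, 0, 1]),
  (([1], [0, 1, 2, 1, 0, 2, 0, 2]), [2, 0, 2, 1, 2], [0, 1, 0, 1, 2, 0, 1, 0, 2]),
  (([2], [1, 0, 1, 2, 0, 1]), [0, 2, 1, 0, 2, 1], [0, 1, 2, 0, 1, 2, 0, 2, 1]),
  (([2], [0, 1]), [2, 0, 1], [0, 1, 0, 2, 1, 0, 2, 0, 2]),
  (([1], [0]), [1, 0, 2], [0, 1, 0, 2, 1, 0, 2, 1, 2]),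
  (([2], [0, 1, 2, 0, 1, 2, 1, 2, 0, 2, 1, 0]), [0, 2, 1], [0, 1, 0, 2, 1, 0, 2, 1, 2]),
  (([1], [0, 2, 0, 1, 2, 0, 1, 0, 2]), [1, 0, 2, 1, 0, 1, 2], [0, 1, 0, 2, 0, 2, 0, 1, 2]),
  (([2], [0, 2, 1]), [1, 2, 0], [0, 1, 2, 0, 1, 0, 2, 1, 2]),
  (([1], [0, 2, 0, 1, 2, 1, 0, 1, 2, 0]), [1, 0, 2], [0, 1, 2, 0, 2, 1, 0, 2, 1]),
  (([0, 2], [1, 0, 1, 0, 2, 0, 1]), [0, 1, 2], [0, 1, 0, 1, 2, 1, 2, 0, 2]),
  (([1], [2, 0, 1, 0, 1, 2]), [0, 1, 2], [0, 1, 0, 1, 2, 1, 2, 0, 2]),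
  (([2], [0, 1, 0, 1]), [2, 0, 1], [0, 1, 0, 2, 0, 2, 0, 1, 2]),
  (([1], [0, 1, 0, 2, 1, 0, 1, 0, 2]), [1, 0, 2, 1, 0, 1, 2], [0, 1, 2, 0, 1, 2, 0, 2, 1]),
  (([0, 2, 1, 2], [1, 2, 1, 0, 2, 0, 2]), [0, 1, 2], [0, 1, 0, 2, 0, 2, 1, 2, 1]),
  (([0, 1], [1, 2, 1, 2]), [0, 1, 2], [0, 1, 0, 2, 1, 0, 1, 0, 2]),
  (([1], [0, 1, 2, 1, 2, 1, 0, 1, 0, 2]), [1, 0, 2, 1, 0, 2], [0, 1, 0, 2, 1, 0, 1, 0, 2]),
  (([0, 2], [1, 0, 1, 0]), [0, 2, 1, 0, 2, 1], [0, 1, 0, 1, 2, 1, 2, 0, 2]),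
  (([1], [0, 1, 2, 0, 1, 0, 2]), [1, 0, 1, 2, 0, 1, 2], [0, 1, 0, 1, 2, 1, 2, 0, 2]),
  (([1], [0, 2, 0, 2]), [1, 0, 2], [0, 1, 0, 2, 1, 0, 2, 1, 2]),
  (([1], [0, 1, 0, 2]), [0, 1, 2, 1, 0, 2, 1], [0, 1, 2, 0, 1, 0, 2, 1, 2]),
  (([1], [2, 0, 2, 1, 0, 1, 2]), [0, 2, 0, 2, 1, 2, 0], [0, 1, 2, 0, 1, 0, 2, 1, 2]),
  (([0, 1], [1, 2, 0, 2]), [2, 0, 1], [0, 1, 0, 2, 0, 2, 0, 1, 2]),
  (([1], [0, 2, 0, 1, 2, 0, 2]), [0, 1, 2, 0, 1, 2, 1, 2, 1, 2], [0, 1, 0, 2, 0, 1, 0, 1, 2]),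
  (([0, 1], [1, 2, 0, 1, 2]), [0, 2, 0, 1, 0], [0, 1, 0, 2, 1, 2, 0, 1, 2]),
  (([0, 1], [1, 2, 0, 1, 0, 1, 2]), [1, 2, 0], [0, 1, 0, 2, 1, 2, 0, 1, 2]),
  (([0, 1], [2, 0, 2, 1, 2]), [2, 1, 2, 0, 2], [0, 1, 0, 1, 2, 1, 2, 0, 2]),
  (([1], [0, 2, 0, 1, 0, 1, 2, 0, 2, 0]), [0, 2, 1, 2, 1, 0, 1, 2, 0], [0, 1, 0, 1, 2, 1, 2, 0, 2]),
  (([1], [0, 2, 0, 1, 2, 0, 2, 0, 1, 2, 0]), [2, 1, 2, 0, 2], [0, 1, 0, 2, 1, 2, 0, 1, 2]),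
  (([1], [0, 1, 2, 0, 1, 2]), [2, 1, 0, 2, 1, 0], [0, 1, 2, 0, 2, 1, 0, 1, 2]),
  (([0, 2], [1, 0, 1, 2, 0, 2, 1]), [0, 1, 0, 2, 0], [0, 1, 2, 1, 2, 0, 2, 0, 1]),
  (([1], [0, 2, 1, 2, 1, 0, 2]), [0, 1, 2, 1, 0, 2, 1], [1, 0, 2, 1, 0, 2, 1, 2, 0]),
  (([1, 0, 1, 0], [0, 2, 1, 2]), [0, 2, 1, 0, 2, 1], [0, 1, 0, 2, 1, 2, 0, 1, 2]),
  (([0, 1, 2, 1], [1, 0, 2]), [2, 0, 1], [0, 1, 0, 2, 0, 2, 1, 2, 1]),
  (([1], [0, 1, 2]), [2, 1, 0], [0, 1, 0, 2, 1, 0, 2, 1, 2]),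
  (([1], [0, 2, 1, 2, 0]), [1, 0, 1, 2, 0, 1, 2], [0, 2, 0, 2, 0, 1, 2, 0, 1]),
  (([0, 2], [1, 0, 1, 0, 2, 1]), [0, 1, 2], [0, 2, 0, 1, 0, 2, 1, 0, 2]),
  (([1, 0, 2, 0], [0, 1, 0, 2, 1]), [0, 2, 0, 1, 0], [0, 1, 0, 2, 1, 0, 1, 0, 2]),
  (([1, 0, 2, 0], [0, 1, 2]), [2, 1, 0], [0, 1, 0, 1, 2, 0, 1, 0, 2]),
  (([2, 0, 1, 0, 1, 0], [0, 1, 0, 2, 0, 2, 0]), [1, 2, 0], [0, 1, 0, 2, 1, 0, 2, 0, 2]),
  (([0, 2], [1, 0, 2, 1, 0]), [2, 0, 1], [0, 1, 0, 1, 2, 0, 1, 0, 2]),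
  (([1], [2, 0, 1, 2]), [2, 1, 2, 0, 2], [0, 1, 0, 2, 0, 2, 0, 1, 2]),
  (([1], [0, 1, 2, 0]), [0, 1, 0, 1, 2, 0, 1, 2, 0], [0, 1, 2, 0, 2, 1, 0, 2, 1]),
  (([0, 1, 2, 1, 2, 1], [1, 0, 1, 2, 1]), [1, 2, 1, 0, 1], [0, 1, 0, 1, 2, 1, 2, 0, 2]),
  (([0, 1], [1, 2]), [0, 2, 1], [0, 1, 0, 2, 1, 0, 2, 1, 2]),
  (([0, 2], [1, 0, 1, 2, 0, 1, 0]), [2, 0, 1, 2, 0, 1], [0, 1, 0, 2, 0, 2, 0, 1, 2]),
  (([1], [0, 1, 0, 2, 0]), [0, 2, 0, 1, 0], [1, 0, 2, 1, 2, 0, 1, 0, 2]),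
  (([1], [0, 2]), [1, 0, 2], [0, 1, 0, 2, 1, 0, 1, 0, 2]),
  (([1], [0, 2, 0, 1, 2, 0, 1, 2]), [1, 0, 2, 1, 0, 2], [0, 2, 0, 2, 0, 1, 2, 0, 1]),
  (([0, 1], [2, 0, 1, 0, 2, 1, 2]), [0, 2, 1], [0, 1, 0, 2, 0, 2, 1, 2, 1])]

theorem T_L : ∀ p ∈ Cfsg.Agent.H68.Ore.Co2Words.L, p = ([], []) ∨ ∃ t ∈ T, t.1 = p := by decide

/-- product of two elements with `n`-th power `1` -/
def Q {G : Type*} [Group G] (n : ℕ) (g : G) : Prop := ∃ x y : G, g = x * y ∧ x ^ n = 1 ∧ y ^ n = 1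

section

variable {G : Type*} [Group G]

theorem Q.conj {n : ℕ} {g : G} (h : Q n g) (x : G) : Q n (x * g * x⁻¹) := by
  obtain ⟨a, b, rfl, ha, hb⟩ := h
  refine ⟨x * a * x⁻¹, x * b * x⁻¹, by group, ?_, ?_⟩
  · rw [conj_pow, ha]; group
  · rw [conj_pow, hb]; group

theorem Q.inv {n : ℕ} {g : G} (h : Q n g) : Q n g⁻¹ := by
  obtain ⟨a, b, rfl, ha, hb⟩ := h
  exact ⟨b⁻¹, a⁻¹, mul_inv_rev a b, by rw [inv_pow, hb, inv_one], by rw [inv_pow, ha, inv_one]⟩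

theorem Q.one (n : ℕ) : Q n (1 : G) := ⟨1, 1, (mul_one 1).symm, one_pow n, one_pow n⟩

variable {Y : Type*} [MulAction G Y] (M : Mdl G Y) {tt : ℕ → G} {gs : ℕ → List ℕ}

theorem rp_pow11 {X : List ℕ} {g : G} (hX : M.Rp X g) {β : Sort _} (k : List ℕ → β) :
    ∃ X', pow11 X k = k X' ∧ M.Rp X' (g ^ 11) := by
  have h2 := Mdl.Rp.mul M hX hX
  have h4 := Mdl.Rp.mul M h2 h2
  have h8 := Mdl.Rp.mul M h4 h4
  have h10 := Mdl.Rp.mul M h8 h2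
  have h11 := Mdl.Rp.mul M h10 hX
  have e : g * g * (g * g) * (g * g * (g * g)) * (g * g) * g = g ^ 11 := by
    simp only [pow_succ, pow_zero, one_mul, mul_assoc]
  rw [e] at h11
  refine ⟨_, ?_, h11⟩
  unfold pow11
  simp only [mapF_eq]

theorem sound23 (hgs : ∀ k, M.Rp (gs k) (tt k)) (htt : ∀ k, tt k * tt k = 1) {x r : List ℕ}
    (h : chk23 gs (idL M.w) x r = true) : Q 23 (wd tt r) := by
  unfold chk23 at h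
  rw [wF_eq, wF_eq] at h
  have hX := rp_wd M hgs x
  have hZ := rp_wd M hgs (x.reverse ++ r)
  obtain ⟨X', e1, h1⟩ := rp_pow M hX (β := Bool) fun X => beqL X (idL M.w)
  obtain ⟨Z', e2, h2⟩ := rp_pow M hZ (β := Bool) fun X => beqL X (idL M.w)
  rw [e1, e2] at h
  cases h3 : beqL X' (idL M.w)
  · rw [h3] at h; exact absurd h Bool.false_ne_true
  rw [h3] at h
  have h4 : beqL Z' (idL M.w) = true := h
  refine ⟨wd tt x, wd tt (x.reverse ++ r), ?_, ?_, ?_⟩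
  · rw [wd_append, wd_reverse htt]; group
  · refine eq_of_rp M h1 ?_
    rw [eq_of_beqL h3]
    exact Mdl.Rp.one M
  · refine eq_of_rp M h2 ?_
    rw [eq_of_beqL h4]
    exact Mdl.Rp.one M

theorem sound11 (hgs : ∀ k, M.Rp (gs k) (tt k)) (htt : ∀ k, tt k * tt k = 1) {x r : List ℕ}
    (h : chk11 gs (idL M.w) x r = true) : Q 11 (wd tt r) := by
  unfold chk11 at h
  rw [wF_eq, wF_eq] at h
  have hX := rp_wd M hgs x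
  have hZ := rp_wd M hgs (x.reverse ++ r)
  obtain ⟨X', e1, h1⟩ := rp_pow11 M hX (β := Bool) fun X => beqL X (idL M.w)
  obtain ⟨Z', e2, h2⟩ := rp_pow11 M hZ (β := Bool) fun X => beqL X (idL M.w)
  rw [e1, e2] at h
  cases h3 : beqL X' (idL M.w)
  · rw [h3] at h; exact absurd h Bool.false_ne_true
  rw [h3] at h
  have h4 : beqL Z' (idL M.w) = true := h
  refine ⟨wd tt x, wd tt (x.reverse ++ r), ?_, ?_, ?_⟩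
  · rw [wd_append, wd_reverse htt]; group
  · refine eq_of_rp M h1 ?_
    rw [eq_of_beqL h3]
    exact Mdl.Rp.one M
  · refine eq_of_rp M h2 ?_
    rw [eq_of_beqL h4]
    exact Mdl.Rp.one M

/-- **all elements**, from the class cover -/
theorem q_of (hgs : ∀ k, M.Rp (gs k) (tt k)) (htt : ∀ k, tt k * tt k = 1)
    (hT : chkP gs (idL M.w) T = true)
    (hc : ∀ g : G, ∃ w ∈ Cfsg.Agent.H68.Ore.Co2Words.L.map cw, IsConj (wd tt w) g ∨ IsConj (wd tt w)⁻¹ g) (g : G) :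
    Q 23 g ∧ Q 11 g := by
  have key : ∀ T : List ((List ℕ × List ℕ) × List ℕ × List ℕ), chkP gs (idL M.w) T = true → ∀ t ∈ T,
      chk23 gs (idL M.w) t.2.1 (cw t.1) = true ∧ chk11 gs (idL M.w) t.2.2 (cw t.1) = true := by
    intro T
    induction T with
    | nil => intro _ t ht; exact absurd ht List.not_mem_nil
    | cons s T ih =>
      intro h t ht
      have h' : cond (chk23 gs (idL M.w) s.2.1 (cw s.1)) (cond (chk11 gs (idL M.w) s.2.2 (cw s.1))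
        (chkP gs (idL M.w) T) false) false = true := h
      cases h0 : chk23 gs (idL M.w) s.2.1 (cw s.1)
      · rw [h0] at h'; exact absurd h' Bool.false_ne_true
      rw [h0] at h'
      cases h1 : chk11 gs (idL M.w) s.2.2 (cw s.1)
      · rw [h1] at h'; exact absurd h' Bool.false_ne_true
      · rw [h1] at h'
        rcases List.mem_cons.1 ht with h2 | h2
        · rw [h2]; exact ⟨h0, h1⟩
        · exact ih h' t h2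
  obtain ⟨w, hw, hg⟩ := hc g
  obtain ⟨p, hp, rfl⟩ := List.mem_map.1 hw
  have h2 : Q 23 (wd tt (cw p)) ∧ Q 11 (wd tt (cw p)) := by
    rcases T_L p hp with h1 | ⟨t, ht, h1⟩
    · have h2 : wd tt (cw p) = 1 := by rw [h1]; rfl
      rw [h2]
      exact ⟨Q.one _, Q.one _⟩
    · obtain ⟨h3, h4⟩ := key T hT t ht
      rw [h1] at h3 h4
      exact ⟨sound23 M hgs htt h3, sound11 M hgs htt h4⟩
  rcases hg with hg | hg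
  · obtain ⟨x, rfl⟩ := isConj_iff.1 hg
    exact ⟨h2.1.conj x, h2.2.conj x⟩
  · obtain ⟨x, rfl⟩ := isConj_iff.1 hg
    exact ⟨h2.1.inv.conj x, h2.2.inv.conj x⟩

open Cfsg.Agent.H78.Pw in
theorem pw_of_q (h : ∀ g : G, Q 23 g ∧ Q 11 g) : Pw G := by
  have key : ∀ (q n : ℕ), q.Coprime n → (∀ g : G, Q q g) → All n G := by
    intro q n hq hQ g
    obtain ⟨x, y, e, hx, hy⟩ := hQ g
    exact ⟨x, y, e, Nat.Coprime.of_dvd_left (orderOf_dvd_of_pow_eq_one hx) hq,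
      Nat.Coprime.of_dvd_left (orderOf_dvd_of_pow_eq_one hy) hq⟩
  refine ⟨key 23 6 (by decide) fun g => (h g).1, fun p hp h5 => ?_⟩
  by_cases hp2 : p = 23
  · subst hp2
    exact key 11 23 (by decide) fun g => (h g).2
  · refine key 23 p ?_ fun g => (h g).1
    exact (Nat.coprime_primes (by norm_num) hp).2 (Ne.symm hp2)

/-- **S2465, the row `Co2`** (generic) -/
theorem pw_of (hgs : ∀ k, M.Rp (gs k) (tt k)) (htt : ∀ k, tt k * tt k = 1) (hT : chkP gs (idL M.w) T = true)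
    (hc : ∀ g : G, ∃ w ∈ Cfsg.Agent.H68.Ore.Co2Words.L.map cw, IsConj (wd tt w) g ∨ IsConj (wd tt w)⁻¹ g)
    {S : Type*} [Group S] (e : S ≃* G) : Cfsg.Agent.H78.Pw.Pw S :=
  (pw_of_q (q_of M hgs htt hT hc)).congr e.symm

/-- **S2453, the row `Co2`** (generic) -/
theorem sq_of (hgs : ∀ k, M.Rp (gs k) (tt k)) (htt : ∀ k, tt k * tt k = 1) (hT : chkP gs (idL M.w) T = true)
    (hc : ∀ g : G, ∃ w ∈ Cfsg.Agent.H68.Ore.Co2Words.L.map cw, IsConj (wd tt w) g ∨ IsConj (wd tt w)⁻¹ g)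
    {S : Type*} [Group S] (e : S ≃* G) : Cfsg.Agent.H134.Sq.AllP 2 S := by
  intro g
  obtain ⟨a, b, h⟩ := (pw_of M hgs htt hT hc e).pow (m := 2) (Or.inl (Nat.prime_two.isPrimePow)) g
  exact ⟨a, b, h⟩

end

end Cfsg.Agent.H966.Ore.CoTwoPw
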