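import Cfsg.Agent.H633.Ore.Co2Mdl
import Cfsg.Agent.H966.Ore.CoTwoPw

/-!
# S2465, S2453, row `Co2`, from the class cover (helper966)
-/

set_option autoImplicit false
set_option maxRecDepth 100000

namespace Cfsg.Agent.H966.Ore.CoTwoPwF

open Cfsg Cfsg.Agent.H633.Ore

theorem chk : CoTwoPw.chkP Co2.GG (idL 22) CoTwoPw.T = true := by decide +kernel

/-- **S2465, the row `Co2` from the class cover** -/
theorem pw_of_cover
    (hc : ∀ g : Spor.Co2, ∃ w ∈ H68.Ore.Co2Words.L.map H68.Ore.Words.cw,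
      IsConj (H68.Ore.Words.wd Co2.tt w) g ∨ IsConj (H68.Ore.Words.wd Co2.tt w)⁻¹ g)
    {S : Type*} [Group S] (h : Spor.IsoCo2 S) : Cfsg.Agent.H78.Pw.Pw S := by
  obtain ⟨e⟩ := h
  exact CoTwoPw.pw_of Co2.M Co2.rpG Co2.tt_sq chk hc e

/-- **S2453, the row `Co2` from the class cover** -/
theorem sq_of_cover
    (hc : ∀ g : Spor.Co2, ∃ w ∈ H68.Ore.Co2Words.L.map H68.Ore.Words.cw,
      IsConj (H68.Ore.Words.wd Co2.tt w) g ∨ IsConj (H68.Ore.Words.wd Co2.tt w)⁻¹ g)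
    {S : Type*} [Group S] (h : Spor.IsoCo2 S) : Cfsg.Agent.H134.Sq.AllP 2 S := by
  obtain ⟨e⟩ := h
  exact CoTwoPw.sq_of Co2.M Co2.rpG Co2.tt_sq chk hc e

end Cfsg.Agent.H966.Ore.CoTwoPwF
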