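import Cfsg.Agent.H633.Ore.Co2Cover
import Cfsg.Agent.H966.Ore.CoTwoPwF

/-!
# S2465, S2453: the row `Co2` (helper966; class cover of helper633)
-/

set_option autoImplicit false
set_option maxRecDepth 100000

namespace Cfsg.Agent.H966.Ore.CoTwoFin

open Cfsg Cfsg.Agent.H633.Ore

theorem reps_eq : H68.Ore.Co2Words.L.map H68.Ore.Words.cw = Co2.reps := by decide

/-- the class cover with the words of helper68 -/
theorem cover (g : Spor.Co2) : ∃ w ∈ H68.Ore.Co2Words.L.map H68.Ore.Words.cw,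
    IsConj (H68.Ore.Words.wd Co2.tt w) g ∨ IsConj (H68.Ore.Words.wd Co2.tt w)⁻¹ g := by
  rw [reps_eq]
  exact Co2.cover g

/-- **S2465, the row `Co2`** -/
theorem pw_Co2 {S : Type*} [Group S] (h : Spor.IsoCo2 S) : Cfsg.Agent.H78.Pw.Pw S := CoTwoPwF.pw_of_cover cover h

/-- **S2453, the row `Co2`** -/
theorem sq_Co2 {S : Type*} [Group S] (h : Spor.IsoCo2 S) : Cfsg.Agent.H134.Sq.AllP 2 S := CoTwoPwF.sq_of_cover cover h

end Cfsg.Agent.H966.Ore.CoTwoFin
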